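import Mathlib
import Cfsg.Prelude.Def_Characters
import Cfsg.Agent.Lib.Helper3.Table
import Cfsg.Agent.Lib.Helper3.Induction
import Cfsg.Agent.Lib.Helper3.Perm
import Cfsg.Agent.Lib.Helper3.NormTwo
import Cfsg.Agent.Lib.Helper26.Virtual
import Cfsg.Agent.S0840
import Cfsg.Agent.S4814

set_option autoImplicit false

/-!
# A TI abelian subgroup inverted by its normalizer (helper67)

`C` abelian of order `2m`, TI with normalizer `N` of order `4m` acting by inversion, `t ∈ C` an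
involution with `C_G(t) = N`, one class of involutions, Klein four Sylow `2`-subgroups.
The generalized character `Φ = ind_C^G (ν - 1)` has the shape `-1 + A - B`; together with the
class multiplication formula this bounds the number of involutions from below.
-/

namespace Cfsg.Agent.Lib.Helper67.DihTI

open Cfsg Cfsg.Agent.Lib.Helper3 Cfsg.Agent.Lib.Helper26
open scoped ComplexConjugate

variable {G : Type*} [Group G] [Fintype G]

theorem sum_ite_mem (H : Subgroup G) (a : ℂ) [DecidablePred (· ∈ H)] :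
    ∑ x : G, (if x ∈ H then a else 0) = (Nat.card H : ℂ) * a := by
  rw [← Finset.sum_filter, Finset.sum_const, nsmul_eq_mul]
  congr 2
  rw [Nat.card_eq_fintype_card, Fintype.card_subtype]

/-- values on `C` of a function induced from `C` -/
theorem indFun_apply_of_mem (C N : Subgroup G) (m : ℕ) (hm : m ≠ 0)
    (cardC : Nat.card C = 2 * m) (cardN : Nat.card N = 4 * m) (hCN : C ≤ N)
    (comm : ∀ a ∈ C, ∀ b ∈ C, a * b = b * a)
    (ti : ∀ g : G, ∀ c ∈ C, c ≠ 1 → g * c * g⁻¹ ∈ C → g ∈ N)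
    (inv : ∀ x ∈ N, x ∉ C → ∀ c ∈ C, x * c * x⁻¹ = c⁻¹)
    (φ : C → ℂ) (h1 : φ 1 = 0) (c : C) :
    indFun C φ (c : G) = φ c + φ c⁻¹ := by
  classical
  by_cases hc : c = 1
  · subst hc
    simp [indFun_one, h1]
  have hc' : (c : G) ≠ 1 := fun h => hc (Subtype.ext h)
  rw [indFun_apply]
  have key : ∀ x : G, extendByZero C φ (x⁻¹ * c * x) =
      (if x ∈ C then φ c else 0) +
        ((if x ∈ N then φ c⁻¹ else 0) - (if x ∈ C then φ c⁻¹ else 0)) := by
    intro x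
    by_cases hxC : x ∈ C
    · have hxN := hCN hxC
      have h2 : x⁻¹ * c * x = c := by rw [mul_assoc, comm c c.2 x hxC, inv_mul_cancel_left]
      rw [h2, extendByZero_apply_coe]
      simp [hxC, hxN]
    · by_cases hxN : x ∈ N
      · have h2 := inv x⁻¹ (N.inv_mem hxN) (fun h => hxC (by simpa using C.inv_mem h)) c c.2
        rw [inv_inv] at h2
        have h3 : ((c : G))⁻¹ = ((c⁻¹ : C) : G) := rfl
        rw [h2, h3, extendByZero_apply_coe]
        simp [hxC, hxN]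
      · rw [extendByZero_apply_not_mem]
        · simp [hxC, hxN]
        · intro hmem
          apply hxN
          have h2 := ti x⁻¹ c c.2 hc' (by simpa using hmem)
          simpa using N.inv_mem h2
  simp only [key, Finset.sum_add_distrib, Finset.sum_sub_distrib, sum_ite_mem, cardC, cardN]
  have hm' : (m : ℂ) ≠ 0 := by exact_mod_cast hm
  push_cast
  field_simp
  ring

/-- A generalized character of norm `2` with value `1` at `1` is a difference of two distinct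
irreducible characters. -/
theorem exists_irr_sub_irr_of_norm_two' {Δ : G → ℂ} (hΔ : IsGeneralizedCharacter G Δ)
    (hnorm : classInner Δ Δ = 2) (h1 : Δ 1 = 1) :
    ∃ α β : IrrCharacter G, α ≠ β ∧ Δ = (α : G → ℂ) - (β : G → ℂ) := by
  classical
  have := Fintype.ofFinite (IrrCharacter G)
  obtain ⟨hcf, hz⟩ := isGeneralizedCharacter_iff.mp hΔ
  choose z hz using hz
  have hsum : ∑ ψ, z ψ ^ 2 = 2 := by
    have := classInner_self_eq_sum_sq hcf z hz
    rw [hnorm] at this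
    exact_mod_cast this.symm
  have hexp : Δ = ∑ ψ : IrrCharacter G, (z ψ : ℂ) • (ψ : G → ℂ) := by
    conv_lhs => rw [classFunction_expansion hcf]
    exact Finset.sum_congr rfl fun ψ _ => by rw [hz]
  have hexα : ∃ α, z α ≠ 0 := by
    by_contra hcon
    push Not at hcon
    simp [hcon] at hsum
  obtain ⟨α, hα⟩ := hexα
  have hsq : ∀ x : ℤ, x ≠ 0 → x ^ 2 ≤ 2 → x ^ 2 = 1 ∧ (x = 1 ∨ x = -1) := by
    intro x hx0 hx
    have h1 : x ≤ 1 := by nlinarith
    have h2 : -1 ≤ x := by nlinarith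
    have h3 : x = 1 ∨ x = -1 := by omega
    rcases h3 with rfl | rfl <;> simp
  have hs1 := Finset.add_sum_erase Finset.univ (fun ψ => z ψ ^ 2) (Finset.mem_univ α)
  rw [hsum] at hs1
  have hnn1 : 0 ≤ ∑ ψ ∈ Finset.univ.erase α, z ψ ^ 2 := Finset.sum_nonneg fun ψ _ => sq_nonneg _
  obtain ⟨hα2, hαpm⟩ := hsq (z α) hα (by linarith)
  have hs2 : ∑ ψ ∈ Finset.univ.erase α, z ψ ^ 2 = 1 := by linarith
  have hexβ : ∃ β ∈ Finset.univ.erase α, z β ≠ 0 := by
    by_contra hcon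
    push Not at hcon
    rw [Finset.sum_eq_zero (fun ψ hψ => by rw [hcon ψ hψ]; simp)] at hs2
    exact zero_ne_one hs2
  obtain ⟨β, hβmem, hβ⟩ := hexβ
  have hs3 := Finset.add_sum_erase (Finset.univ.erase α) (fun ψ => z ψ ^ 2) hβmem
  rw [hs2] at hs3
  have hnn2 : 0 ≤ ∑ ψ ∈ (Finset.univ.erase α).erase β, z ψ ^ 2 :=
    Finset.sum_nonneg fun ψ _ => sq_nonneg _
  obtain ⟨hβ2, hβpm⟩ := hsq (z β) hβ (by linarith)
  have hs4 : ∑ ψ ∈ (Finset.univ.erase α).erase β, z ψ ^ 2 = 0 := by linarith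
  have hrest : ∀ ψ ∈ (Finset.univ.erase α).erase β, z ψ = 0 := by
    intro ψ hψ
    have := (Finset.sum_eq_zero_iff_of_nonneg (fun ψ _ => sq_nonneg (z ψ))).mp hs4 ψ hψ
    exact pow_eq_zero_iff (two_ne_zero) |>.mp this
  have hαβ : β ≠ α := Finset.ne_of_mem_erase hβmem
  have hΔ2 : Δ = (z α : ℂ) • (α : G → ℂ) + (z β : ℂ) • (β : G → ℂ) := by
    rw [hexp, ← Finset.add_sum_erase Finset.univ _ (Finset.mem_univ α),
      ← Finset.add_sum_erase (Finset.univ.erase α) _ hβmem,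
      Finset.sum_eq_zero (fun ψ hψ => by rw [hrest ψ hψ]; simp), add_zero]
  obtain ⟨a, ha⟩ := IsCharacter.apply_one_eq_natCast (IsIrrCharacter.isCharacter α.2)
  obtain ⟨b, hb⟩ := IsCharacter.apply_one_eq_natCast (IsIrrCharacter.isCharacter β.2)
  have ha0 : a ≠ 0 := by
    rintro rfl
    exact IsIrrCharacter.apply_one_ne_zero α.2 (by rw [ha]; simp)
  have hb0 : b ≠ 0 := by
    rintro rfl
    exact IsIrrCharacter.apply_one_ne_zero β.2 (by rw [hb]; simp)
  have hdeg : z α * a + z β * b = 1 := by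
    have := congrFun hΔ2 1
    rw [h1] at this
    simp only [Pi.add_apply, Pi.smul_apply, smul_eq_mul, ha, hb] at this
    exact_mod_cast this.symm
  rcases hαpm with h | h <;> rcases hβpm with h' | h'
  · exfalso; rw [h, h'] at hdeg; omega
  · refine ⟨α, β, hαβ.symm, ?_⟩
    rw [hΔ2, h, h']; simp [sub_eq_add_neg]
  · refine ⟨β, α, hαβ, ?_⟩
    rw [hΔ2, h, h']; simp [sub_eq_add_neg, add_comm]
  · exfalso; rw [h, h'] at hdeg; omega

/-- restriction to a four-group all of whose involutions are conjugate to `t` -/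
theorem klein_ineq (T : Subgroup G) (hT : Nat.card T = 4) (t : G)
    (hconj : ∀ x ∈ T, x ≠ 1 → IsConj t x) {χ : G → ℂ} (hχ : IsCharacter G χ) :
    ∃ n : ℕ, χ 1 + 3 * χ t = 4 * n := by
  classical
  have := Fintype.ofFinite T
  obtain ⟨n, hn⟩ := IsCharacter.classInner_eq_natCast (IsCharacter.restrict hχ T)
    (isCharacter_one (G := T))
  refine ⟨n, ?_⟩
  have hsum : ∑ x : T, χ x = χ 1 + 3 * χ t := by
    have h1 : ∀ x : T, χ x = χ t + (if x = 1 then χ 1 - χ t else 0) := by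
      intro x
      by_cases hx : x = 1
      · simp [hx]
      · simp only [hx, if_false, add_zero]
        exact (IsClassFunction.eq_of_isConj (IsCharacter.isClassFunction hχ)
          (hconj x x.2 (fun h => hx (Subtype.ext h)))).symm
    have hcard : (Finset.univ : Finset T).card = 4 := by
      rw [Finset.card_univ, ← Nat.card_eq_fintype_card, hT]
    simp only [h1, Finset.sum_add_distrib, Finset.sum_const, Finset.sum_ite_eq', Finset.mem_univ,
      if_true, hcard]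
    simp only [nsmul_eq_mul]
    push_cast
    ring
  rw [classInner, hT] at hn
  simp only [Pi.one_apply, map_one, mul_one] at hn
  rw [hsum] at hn
  rw [← hn]
  push_cast
  ring

theorem classInner_hom {X : Type*} [Group X] [Fintype X] (f g : X →* ℂˣ) [Decidable (f = g)] :
    classInner (fun c => (f c : ℂ)) (fun c => (g c : ℂ)) = if f = g then 1 else 0 := by
  classical
  rw [classInner_irr (isIrrCharacter_of_hom f) (isIrrCharacter_of_hom g)]
  have : ((fun c => (f c : ℂ)) = (fun c => (g c : ℂ))) ↔ f = g := by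
    constructor
    · intro h
      ext c
      exact congrFun h c
    · rintro rfl
      rfl
  simp only [this]

section main

variable (C N : Subgroup G) (m : ℕ) (ν : C →* ℂˣ)

/-- `Φ = ind_C^G (ν - 1)` -/
noncomputable def Phi : G → ℂ :=
  indFun C ((fun c => (ν c : ℂ)) - (fun c => ((1 : C →* ℂˣ) c : ℂ)))

theorem Phi_isGen : IsGeneralizedCharacter G (Phi C ν) := by
  rw [Phi, indFun_sub]
  exact ⟨_, _, isCharacter_indFun C (IsIrrCharacter.isCharacter (isIrrCharacter_of_hom ν)),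
    isCharacter_indFun C (IsIrrCharacter.isCharacter (isIrrCharacter_of_hom 1)), rfl⟩

theorem Phi_one : Phi C ν 1 = 0 := by
  rw [Phi, indFun_one]
  simp

theorem Phi_inner (hν1 : ν ≠ 1) {χ : G → ℂ} (hχ : IsClassFunction G χ) [Fintype C] :
    classInner (Phi C ν) χ =
      (Nat.card C : ℂ)⁻¹ * ∑ c : C, ((ν c : ℂ) - 1) * conj (χ c) := by
  rw [Phi, frobenius_reciprocity C _ hχ, classInner]
  simp

theorem Phi_inner_one (hν1 : ν ≠ 1) : classInner (Phi C ν) (fun _ => (1 : ℂ)) = -1 := by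
  classical
  have := Fintype.ofFinite C
  rw [Phi, frobenius_reciprocity C _ (fun _ _ => rfl)]
  have h1 : (fun _ : C => (1 : ℂ)) = (fun c => ((1 : C →* ℂˣ) c : ℂ)) := by
    ext c; simp
  rw [h1, classInner_sub_left, classInner_hom, classInner_hom]
  simp [hν1]

variable {C N m}

theorem Phi_coe (hm : m ≠ 0)
    (cardC : Nat.card C = 2 * m) (cardN : Nat.card N = 4 * m) (hCN : C ≤ N)
    (comm : ∀ a ∈ C, ∀ b ∈ C, a * b = b * a)
    (ti : ∀ g : G, ∀ c ∈ C, c ≠ 1 → g * c * g⁻¹ ∈ C → g ∈ N)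
    (inv : ∀ x ∈ N, x ∉ C → ∀ c ∈ C, x * c * x⁻¹ = c⁻¹) (c : C) :
    Phi C ν (c : G) = ((ν c : ℂ) - 1) + (((ν⁻¹ : C →* ℂˣ) c : ℂ) - 1) := by
  rw [Phi, indFun_apply_of_mem C N m hm cardC cardN hCN comm ti inv _ (by simp) c]
  simp

theorem Phi_norm (hm : m ≠ 0)
    (cardC : Nat.card C = 2 * m) (cardN : Nat.card N = 4 * m) (hCN : C ≤ N)
    (comm : ∀ a ∈ C, ∀ b ∈ C, a * b = b * a)
    (ti : ∀ g : G, ∀ c ∈ C, c ≠ 1 → g * c * g⁻¹ ∈ C → g ∈ N)
    (inv : ∀ x ∈ N, x ∉ C → ∀ c ∈ C, x * c * x⁻¹ = c⁻¹)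
    (hν1 : ν ≠ 1) (hνinv : ν ≠ ν⁻¹) :
    classInner (Phi C ν) (Phi C ν) = 3 := by
  classical
  have := Fintype.ofFinite C
  have hres : (fun c : C => Phi C ν (c : G)) =
      ((fun c => (ν c : ℂ)) - (fun c => ((1 : C →* ℂˣ) c : ℂ))) +
      ((fun c => ((ν⁻¹ : C →* ℂˣ) c : ℂ)) - (fun c => ((1 : C →* ℂˣ) c : ℂ))) := by
    ext c
    rw [Phi_coe ν hm cardC cardN hCN comm ti inv c]
    simp
  conv_lhs => rw [Phi]
  rw [frobenius_reciprocity C _ (isClassFunction_indFun C _)]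
  have hres' : (fun h : C => indFun C ((fun c => (ν c : ℂ)) - (fun c => ((1 : C →* ℂˣ) c : ℂ)))
      (h : G)) = (fun c : C => Phi C ν (c : G)) := rfl
  rw [hres', hres]
  have h1 : (1 : C →* ℂˣ) ≠ ν := fun h => hν1 h.symm
  have h2 : (1 : C →* ℂˣ) ≠ ν⁻¹ := by
    intro h
    apply hν1
    ext c
    have h3 := congrArg (fun f : C →* ℂˣ => (f c)⁻¹) h
    simp only [MonoidHom.one_apply, MonoidHom.inv_apply, inv_one, inv_inv] at h3
    rw [← h3]
    simp
  simp only [classInner_sub_left, classInner_add_right, classInner_sub_right, classInner_hom,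
    hν1, hνinv, h1, h2, if_true, if_false]
  norm_num

theorem Phi_decomp (hm : m ≠ 0)
    (cardC : Nat.card C = 2 * m) (cardN : Nat.card N = 4 * m) (hCN : C ≤ N)
    (comm : ∀ a ∈ C, ∀ b ∈ C, a * b = b * a)
    (ti : ∀ g : G, ∀ c ∈ C, c ≠ 1 → g * c * g⁻¹ ∈ C → g ∈ N)
    (inv : ∀ x ∈ N, x ∉ C → ∀ c ∈ C, x * c * x⁻¹ = c⁻¹)
    (hν1 : ν ≠ 1) (hνinv : ν ≠ ν⁻¹) :
    ∃ A B : IrrCharacter G, A ≠ B ∧
      Phi C ν = (A : G → ℂ) - (B : G → ℂ) - (oneIrr G : G → ℂ) := by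
  have h3 := Phi_norm ν hm cardC cardN hCN comm ti inv hν1 hνinv
  have h1 : classInner (Phi C ν) (oneIrr G : G → ℂ) = -1 := Phi_inner_one C ν hν1
  have h1' : classInner (oneIrr G : G → ℂ) (Phi C ν) = -1 := by
    rw [← classInner_conj_symm, h1]; simp
  obtain ⟨A, B, hAB, h⟩ := exists_irr_sub_irr_of_norm_two'
    (Δ := Phi C ν + (oneIrr G : G → ℂ)) (gen_add (Phi_isGen C ν) (gen_of_irr (oneIrr G).2))
    (by
      rw [classInner_add_left, classInner_add_right, classInner_add_right, h3, h1, h1',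
        classInner_irr_self (oneIrr G).2]
      norm_num)
    (by simp [Phi_one])
  exact ⟨A, B, hAB, by rw [← h]; simp⟩

theorem sum_wt_irr [Fintype (IrrCharacter G)] (wt : IrrCharacter G → ℂ) (A : IrrCharacter G) :
    ∑ χ : IrrCharacter G, wt χ * classInner (A : G → ℂ) (χ : G → ℂ) = wt A := by
  classical
  rw [Finset.sum_eq_single A]
  · rw [classInner_irr_self A.2, mul_one]
  · intro χ _ hχ
    rw [classInner_irr_ne A.2 χ.2 (fun h => hχ (Subtype.ext h).symm), mul_zero]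
  · intro h
    exact absurd (Finset.mem_univ A) h

theorem sum_wt_Phi [Fintype (IrrCharacter G)] (hm : m ≠ 0) (cardC : Nat.card C = 2 * m)
    (hν1 : ν ≠ 1) (wt : IrrCharacter G → ℂ) (κ : ℂ)
    (hκ : ∀ c : C, c ≠ 1 → ∑ χ : IrrCharacter G, wt χ * conj ((χ : G → ℂ) c) = κ) :
    ∑ χ : IrrCharacter G, wt χ * classInner (Phi C ν) (χ : G → ℂ) = -κ := by
  classical
  have := Fintype.ofFinite C
  have hm' : (m : ℂ) ≠ 0 := by exact_mod_cast hm
  have h0 : ∑ c : C, (ν c : ℂ) = 0 := by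
    have h := classInner_hom ν (1 : C →* ℂˣ)
    rw [if_neg hν1, classInner, cardC] at h
    simp only [MonoidHom.one_apply, Units.val_one, map_one, mul_one] at h
    rcases mul_eq_zero.mp h with h | h
    · exfalso
      rw [inv_eq_zero] at h
      push_cast at h
      simp [hm'] at h
    · exact h
  have h1 : ∀ χ : IrrCharacter G, wt χ * classInner (Phi C ν) (χ : G → ℂ) =
      (Nat.card C : ℂ)⁻¹ * ∑ c : C, ((ν c : ℂ) - 1) * (wt χ * conj ((χ : G → ℂ) c)) := by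
    intro χ
    rw [Phi_inner C ν hν1 (IsIrrCharacter.isClassFunction χ.2), Finset.mul_sum, Finset.mul_sum,
      Finset.mul_sum]
    refine Finset.sum_congr rfl fun c _ => ?_
    ring
  simp only [h1]
  rw [← Finset.mul_sum, Finset.sum_comm]
  have h2 : ∀ c : C, ∑ χ : IrrCharacter G, ((ν c : ℂ) - 1) * (wt χ * conj ((χ : G → ℂ) c)) =
      ((ν c : ℂ) - 1) * κ := by
    intro c
    rw [← Finset.mul_sum]
    by_cases hc : c = 1
    · subst hc
      simp
    · rw [hκ c hc]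
  simp only [h2]
  rw [← Finset.sum_mul, Finset.sum_sub_distrib, h0, Finset.sum_const, Finset.card_univ,
    ← Nat.card_eq_fintype_card, cardC]
  simp only [nsmul_eq_mul, mul_one]
  push_cast
  field_simp
  ring

end main

theorem real_ineq (m w b : ℕ) (k : ℝ) (hm : 2 ≤ m) (hw0 : 0 < w) (hw : w ≤ 4 * m ^ 2 + 1)
    (hb : 1 ≤ b) (hk1 : 0 ≤ 3 * k + b) (hk2 : k ≤ b)
    (h : (8 * (m : ℝ) ^ 2 / w) = 1 - (k + 1) ^ 2 / ((b : ℝ) + 1) + k ^ 2 / b) : False := by
  have hm' : (2 : ℝ) ≤ m := by exact_mod_cast hm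
  have hw0' : (0 : ℝ) < w := by exact_mod_cast hw0
  have hw' : (w : ℝ) ≤ 4 * (m : ℝ) ^ 2 + 1 := by exact_mod_cast hw
  have hb' : (1 : ℝ) ≤ b := by exact_mod_cast hb
  have h1 : (16 : ℝ) / 9 ≤ 8 * (m : ℝ) ^ 2 / w := by
    rw [le_div_iff₀ hw0']
    nlinarith
  have hbpos : (0 : ℝ) < (b : ℝ) * ((b : ℝ) + 1) := by positivity
  have h2 : 1 - (k + 1) ^ 2 / ((b : ℝ) + 1) + k ^ 2 / b =
      ((b : ℝ) * (b + 1) - (k + 1) ^ 2 * b + k ^ 2 * (b + 1)) / ((b : ℝ) * (b + 1)) := by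
    have hb0 : (b : ℝ) ≠ 0 := by positivity
    have hb1 : (b : ℝ) + 1 ≠ 0 := by positivity
    field_simp
  have h3 : ((b : ℝ) * (b + 1) - (k + 1) ^ 2 * b + k ^ 2 * (b + 1)) / ((b : ℝ) * (b + 1)) <
      16 / 9 := by
    rw [div_lt_iff₀ hbpos]
    have h4 : (3 * k + b) * (k - b) ≤ 0 :=
      mul_nonpos_of_nonneg_of_nonpos hk1 (by linarith)
    nlinarith [mul_nonneg (by linarith : (0 : ℝ) ≤ b) hk1]
  rw [h, h2] at h1
  linarith

theorem exists_hom_ne_one {G : Type*} [Group G] (C : Subgroup G) [Finite C]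
    (comm : ∀ a ∈ C, ∀ b ∈ C, a * b = b * a) (a : C) (ha : a ≠ 1) :
    ∃ ψ : C →* ℂˣ, ψ a ≠ 1 := by
  letI : CommGroup C :=
    { (inferInstance : Group C) with mul_comm := fun x y => Subtype.ext (comm x x.2 y y.2) }
  have : NeZero (Monoid.exponent C : ℂ) :=
    ⟨by exact_mod_cast (Monoid.exponent_ne_zero_of_finite)⟩
  exact CommGroup.exists_apply_ne_one_of_hasEnoughRootsOfUnity C ℂ ha

/-- a linear character of `C`, trivial on `t`, not real -/
theorem exists_nu {G : Type*} [Group G] (C : Subgroup G) [Finite C]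
    (comm : ∀ a ∈ C, ∀ b ∈ C, a * b = b * a) (t : G) (htC : t ∈ C) (ht2 : t * t = 1)
    (p₀ : G) (hp₀ : p₀ ∈ C) (hp₀1 : p₀ ≠ 1) (hp₀odd : Odd (orderOf p₀)) :
    ∃ ν : C →* ℂˣ, ν ⟨t, htC⟩ = 1 ∧ ν ≠ 1 ∧ ν ≠ ν⁻¹ := by
  obtain ⟨ψ, hψ⟩ := exists_hom_ne_one C comm ⟨p₀, hp₀⟩ (fun h => hp₀1 (congrArg Subtype.val h))
  have h4 : (ψ ⟨p₀, hp₀⟩) ^ 4 ≠ 1 := by
    intro h
    apply hψ
    rw [← orderOf_eq_one_iff]
    have d1 : orderOf (ψ ⟨p₀, hp₀⟩) ∣ 4 := orderOf_dvd_of_pow_eq_one h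
    have d2 : orderOf (ψ ⟨p₀, hp₀⟩) ∣ orderOf p₀ := by
      have := orderOf_map_dvd ψ (⟨p₀, hp₀⟩ : C)
      rwa [Subgroup.orderOf_mk] at this
    have hcop : Nat.Coprime 4 (orderOf p₀) := by
      have : Nat.Coprime (2 ^ 2) (orderOf p₀) :=
        Nat.Coprime.pow_left 2 (Nat.coprime_two_left.mpr hp₀odd)
      simpa using this
    exact Nat.eq_one_of_dvd_coprimes hcop d1 d2
  refine ⟨ψ ^ 2, ?_, ?_, ?_⟩
  · rw [MonoidHom.pow_apply, pow_two, ← map_mul]
    have : (⟨t, htC⟩ : C) * ⟨t, htC⟩ = 1 := Subtype.ext ht2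
    rw [this, map_one]
  · intro h
    apply h4
    have := congrArg (fun f : C →* ℂˣ => f ⟨p₀, hp₀⟩) h
    simp only [MonoidHom.pow_apply, MonoidHom.one_apply] at this
    calc (ψ ⟨p₀, hp₀⟩) ^ 4 = ((ψ ⟨p₀, hp₀⟩) ^ 2) ^ 2 := by rw [← pow_mul]
      _ = 1 := by rw [this, one_pow]
  · intro h
    apply h4
    have := congrArg (fun f : C →* ℂˣ => f ⟨p₀, hp₀⟩) h
    simp only [MonoidHom.pow_apply, MonoidHom.inv_apply] at this
    calc (ψ ⟨p₀, hp₀⟩) ^ 4 = (ψ ⟨p₀, hp₀⟩) ^ 2 * (ψ ⟨p₀, hp₀⟩) ^ 2 := by rw [← pow_add]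
      _ = (ψ ⟨p₀, hp₀⟩) ^ 2 * ((ψ ⟨p₀, hp₀⟩) ^ 2)⁻¹ := by rw [← this]
      _ = 1 := mul_inv_cancel _

/-- The configuration is contradictory when the number `w` of involutions is at most `4m²+1`. -/
theorem false_of_config {G : Type*} [Group G] [Finite G] (C N : Subgroup G) (t : G) (m : ℕ)
    (hm : 2 ≤ m) (cardC : Nat.card C = 2 * m) (cardN : Nat.card N = 4 * m) (hCN : C ≤ N)
    (comm : ∀ a ∈ C, ∀ b ∈ C, a * b = b * a)
    (ti : ∀ g : G, ∀ c ∈ C, c ≠ 1 → g * c * g⁻¹ ∈ C → g ∈ N)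
    (inv : ∀ x ∈ N, x ∉ C → ∀ c ∈ C, x * c * x⁻¹ = c⁻¹)
    (htC : t ∈ C) (ht2 : t * t = 1)
    (p₀ : G) (hp₀ : p₀ ∈ C) (hp₀1 : p₀ ≠ 1) (hp₀odd : Odd (orderOf p₀))
    (T : Subgroup G) (hT : Nat.card T = 4) (hTconj : ∀ x ∈ T, x ≠ 1 → IsConj t x)
    (count : ∀ c ∈ C, c ≠ 1 →
      Nat.card {p : G × G // IsConj t p.1 ∧ IsConj t p.2 ∧ p.1 * p.2 = c} = 2 * m)
    (w : ℕ) (hw : Nat.card {x : G // IsConj t x} = w) (hG : Nat.card G = 4 * m * w)
    (hwb : w ≤ 4 * m ^ 2 + 1) : False := by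
  classical
  have := Fintype.ofFinite G
  have := Fintype.ofFinite (IrrCharacter G)
  have hm0 : m ≠ 0 := by omega
  have hw0 : 0 < w := by
    rw [← hw]
    haveI : Nonempty {x : G // IsConj t x} := ⟨⟨t, IsConj.refl t⟩⟩
    exact Nat.card_pos
  obtain ⟨ν, hνt, hν1, hνinv⟩ := exists_nu C comm t htC ht2 p₀ hp₀ hp₀1 hp₀odd
  obtain ⟨A, B, hAB, hΦ⟩ := Phi_decomp ν hm0 cardC cardN hCN comm ti inv hν1 hνinv
  have hmC : (m : ℂ) ≠ 0 := by exact_mod_cast hm0
  have hwC : (w : ℂ) ≠ 0 := by exact_mod_cast hw0.ne'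
  have hκ : ∀ c : C, c ≠ 1 → ∑ χ : IrrCharacter G,
      ((χ : G → ℂ) t * (χ : G → ℂ) t / (χ : G → ℂ) 1) * conj ((χ : G → ℂ) c) =
        8 * (m : ℂ) ^ 2 / w := by
    intro c hc
    have h := Cfsg.Agent.S0840.result t t (c : G)
    rw [count c c.2 (fun h => hc (Subtype.ext h)), hw, hG, finsum_eq_sum_of_fintype] at h
    have h2 : ∑ χ : IrrCharacter G,
        ((χ : G → ℂ) t * (χ : G → ℂ) t / (χ : G → ℂ) 1) * conj ((χ : G → ℂ) c) =
        ∑ χ : IrrCharacter G, (χ : G → ℂ) t * (χ : G → ℂ) t * conj ((χ : G → ℂ) c) /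
          (χ : G → ℂ) 1 := by
      refine Finset.sum_congr rfl fun χ _ => ?_
      ring
    rw [h2]
    generalize (∑ χ : IrrCharacter G, (χ : G → ℂ) t * (χ : G → ℂ) t * conj ((χ : G → ℂ) c) /
          (χ : G → ℂ) 1) = S at h
    push_cast at h
    field_simp at h
    field_simp
    linear_combination (-1 : ℂ) * h
  have hsum := sum_wt_Phi ν hm0 cardC hν1 _ _ hκ
  rw [hΦ] at hsum
  simp only [classInner_sub_left, mul_sub, Finset.sum_sub_distrib] at hsum
  rw [sum_wt_irr, sum_wt_irr, sum_wt_irr] at hsum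
  have hA1 : (A : G → ℂ) 1 = (B : G → ℂ) 1 + 1 := by
    have h := congrFun hΦ 1
    rw [Phi_one] at h
    simp only [Pi.sub_apply, oneIrr_apply] at h
    linear_combination -h
  have hAt : (A : G → ℂ) t = (B : G → ℂ) t + 1 := by
    have h := congrFun hΦ t
    have h2 := Phi_coe ν hm0 cardC cardN hCN comm ti inv ⟨t, htC⟩
    simp only [MonoidHom.inv_apply, hνt, inv_one, Units.val_one, sub_self, add_zero] at h2
    rw [h2] at h
    simp only [Pi.sub_apply, oneIrr_apply] at h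
    linear_combination -h
  obtain ⟨b, hb0, hb⟩ := irr_degree B.2
  obtain ⟨n, hn⟩ := klein_ineq T hT t hTconj (IsIrrCharacter.isCharacter B.2)
  have hBt : (B : G → ℂ) t = (((4 * n - b) / 3 : ℝ) : ℂ) := by
    push_cast
    rw [hb] at hn
    linear_combination (1 / 3 : ℂ) * hn
  have hnorm := Cfsg.Agent.S4814.norm_char_le_one (IsIrrCharacter.isCharacter B.2) t
  rw [hBt, hb, Complex.norm_real, Complex.norm_natCast, Real.norm_eq_abs] at hnorm
  rw [hA1, hAt, hBt, hb] at hsum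
  simp only [oneIrr_apply] at hsum
  apply real_ineq m w b ((4 * n - b) / 3) hm hw0 hwb hb0
  · have : (0 : ℝ) ≤ n := Nat.cast_nonneg n
    linarith
  · exact (abs_le.mp hnorm).2
  · have h5 : ((8 * (m : ℝ) ^ 2 / w : ℝ) : ℂ) =
        ((1 - ((4 * n - b) / 3 + 1) ^ 2 / ((b : ℝ) + 1) + ((4 * n - b) / 3) ^ 2 / b : ℝ) : ℂ) := by
      push_cast
      push_cast at hsum
      linear_combination hsum
    exact_mod_cast h5

end Cfsg.Agent.Lib.Helper67.DihTI
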