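import Mathlib
import Cfsg.Agent.Lib.Helper67.SylowTools
import Cfsg.Agent.Lib.Helper96.BaerSuzuki

set_option autoImplicit false

namespace Cfsg.Agent.Lib.Helper67

open scoped Pointwise

variable {G : Type*} [Group G] [Finite G]

/-- Lifting a conjugation relation `s h s⁻¹ ≡ h ^ i` modulo a normal `r'`-subgroup `T`, for an
`r`-element `h`, to an exact relation, at the cost of changing `s` by an element of `⟨h⟩ T`. -/
theorem lift_normalizing (T : Subgroup G) [T.Normal] {r : ℕ} (hr : r.Prime)
    (hrT : ¬ r ∣ Nat.card T) (h : G) (k' : ℕ) (hh : orderOf h = r ^ k') (s : G) (i : ℤ)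
    (hs : ((s * h * s⁻¹ : G) : G ⧸ T) = ((h : G) : G ⧸ T) ^ i) :
    ∃ c ∈ Subgroup.zpowers h ⊔ T, (c * s) * h * (c * s)⁻¹ = h ^ i := by
  have : Fact r.Prime := ⟨hr⟩
  have h3 : s * h * s⁻¹ ∈ Subgroup.zpowers h ⊔ T := by
    have h4 : (h ^ i)⁻¹ * (s * h * s⁻¹) ∈ T := by
      rw [← QuotientGroup.eq, hs]
      rfl
    have h5 : s * h * s⁻¹ = h ^ i * ((h ^ i)⁻¹ * (s * h * s⁻¹)) := by group
    rw [h5]
    exact Subgroup.mul_mem _ (Subgroup.mem_sup_left (Subgroup.zpow_mem _ (Subgroup.mem_zpowers h) i))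
      (Subgroup.mem_sup_right h4)
  have hpx : IsPGroup r (Subgroup.zpowers h) :=
    IsPGroup.of_card (n := k') (by rw [Nat.card_zpowers, hh])
  have hpx' : IsPGroup r (Subgroup.zpowers (s * h * s⁻¹)) := by
    apply IsPGroup.of_card (n := k')
    rw [Nat.card_zpowers, ← hh]
    have := MulEquiv.orderOf_eq (MulAut.conj s) h
    simpa using this
  have hidx : ¬ r ∣ (Subgroup.zpowers h).relIndex (Subgroup.zpowers h ⊔ T) := by
    intro hd
    exact hrT (hd.trans (relIndex_sup_dvd_card _ _))
  obtain ⟨c, hc, hconj⟩ := sylow_conj_in (p := r) (Subgroup.zpowers h ⊔ T) (Subgroup.zpowers h)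
    (Subgroup.zpowers (s * h * s⁻¹)) (by rw [Subgroup.zpowers_le]; exact h3) hpx hpx' hidx
  refine ⟨c, hc, ?_⟩
  obtain ⟨j, hj⟩ := hconj _ (Subgroup.mem_zpowers _)
  simp only at hj
  have h7 : (c * s) * h * (c * s)⁻¹ = h ^ j := by
    rw [hj]; group
  rw [h7]
  -- the image of c commutes with the image of h
  have h9 : Subgroup.zpowers h ⊔ T ≤
      (Subgroup.centralizer {((h : G) : G ⧸ T)}).comap (QuotientGroup.mk' T) := by
    rw [sup_le_iff]
    constructor
    · rw [Subgroup.zpowers_le, Subgroup.mem_comap, Subgroup.mem_centralizer_singleton_iff]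
      rfl
    · intro n hn
      rw [Subgroup.mem_comap, Subgroup.mem_centralizer_singleton_iff]
      have : (QuotientGroup.mk' T) n = 1 := (QuotientGroup.eq_one_iff n).2 hn
      rw [this]; simp
  have h10 := h9 hc
  rw [Subgroup.mem_comap, Subgroup.mem_centralizer_singleton_iff] at h10
  have h11 : ((h : G) : G ⧸ T) ^ j = ((h : G) : G ⧸ T) ^ i := by
    have e1 : ((h ^ j : G) : G ⧸ T) = ((c : G) : G ⧸ T) * ((s * h * s⁻¹ : G) : G ⧸ T) * ((c : G) : G ⧸ T)⁻¹ := by
      rw [hj]; rfl
    have e2 : ((h ^ j : G) : G ⧸ T) = ((h : G) : G ⧸ T) ^ j := rfl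
    rw [← e2, e1, hs]
    have hcomm : Commute ((c : G) : G ⧸ T) (((h : G) : G ⧸ T)) := h10
    have := (hcomm.zpow_right i).eq
    rw [this]; group
  have h12 : h ^ (j - i) ∈ T := by
    rw [← QuotientGroup.eq_one_iff]
    have : ((h ^ (j - i) : G) : G ⧸ T) = ((h : G) : G ⧸ T) ^ (j - i) := rfl
    rw [this, zpow_sub, h11]; group
  have h13 : h ^ (j - i) = 1 := by
    have d1 : orderOf (h ^ (j - i)) ∣ Nat.card T := Subgroup.orderOf_dvd_natCard T h12
    have d2 : orderOf (h ^ (j - i)) ∣ r ^ k' := by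
      rw [← hh]
      apply orderOf_dvd_of_pow_eq_one
      rw [← zpow_natCast, ← zpow_mul, mul_comm, zpow_mul, zpow_natCast, pow_orderOf_eq_one, one_zpow]
    have hcop : Nat.Coprime (Nat.card T) (r ^ k') :=
      (Nat.Coprime.pow_left k' ((Nat.Prime.coprime_iff_not_dvd hr).2 hrT)).symm
    exact orderOf_eq_one_iff.1 (Nat.eq_one_of_dvd_coprimes hcop d1 d2)
  rw [zpow_sub, mul_inv_eq_one] at h13
  exact h13

/-- Two involutions whose product is a `2`-element generate a `2`-group. -/
theorem isPGroup_two_of_involutions {H : Type*} [Group H] (s t : H) (hs : s ^ 2 = 1) (ht : t ^ 2 = 1)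
    (k : ℕ) (hst : (s * t) ^ 2 ^ k = 1) :
    IsPGroup 2 (Subgroup.zpowers s ⊔ Subgroup.zpowers t : Subgroup H) := by
  have : Fact (Nat.Prime 2) := ⟨Nat.prime_two⟩
  have hsinv : s⁻¹ = s := by
    rw [inv_eq_iff_mul_eq_one, ← pow_two, hs]
  have htinv : t⁻¹ = t := by
    rw [inv_eq_iff_mul_eq_one, ← pow_two, ht]
  have hps : IsPGroup 2 (Subgroup.zpowers s) := by
    rintro ⟨_, j, rfl⟩
    refine ⟨1, Subtype.ext ?_⟩
    simp only [pow_one, Subgroup.coe_pow, Subgroup.coe_one]
    rw [← zpow_natCast, ← zpow_mul, mul_comm, zpow_mul, zpow_natCast, hs, one_zpow]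
  have hpy : IsPGroup 2 (Subgroup.zpowers (s * t)) := by
    rintro ⟨_, j, rfl⟩
    refine ⟨k, Subtype.ext ?_⟩
    simp only [Subgroup.coe_pow, Subgroup.coe_one]
    rw [← zpow_natCast, ← zpow_mul, mul_comm, zpow_mul, zpow_natCast, hst, one_zpow]
  have hnorm : Subgroup.zpowers s ≤ Subgroup.normalizer ((Subgroup.zpowers (s * t) : Subgroup H) : Set H) := by
    rw [Subgroup.le_normalizer_iff]
    rintro _ ⟨a, rfl⟩ _ ⟨b, rfl⟩
    simp only
    have h1 : ∀ a : ℤ, s ^ a * (s * t) * (s ^ a)⁻¹ ∈ Subgroup.zpowers (s * t) := by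
      have hmem : s ∈ (Subgroup.normalizer ((Subgroup.zpowers (s * t) : Subgroup H) : Set H)) := by
        have hconj : ∀ b : ℤ, s * (s * t) ^ b * s⁻¹ = ((s * t) ^ b)⁻¹ := by
          intro b
          have : s * (s * t) * s⁻¹ = (s * t)⁻¹ := by
            rw [mul_inv_rev, hsinv, htinv]
            calc s * (s * t) * s = (s * s) * t * s := by group
              _ = t * s := by rw [← pow_two, hs, one_mul]
          rw [← conj_zpow, this, inv_zpow]
        rw [Subgroup.mem_normalizer_iff]
        intro x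
        constructor
        · rintro ⟨b, rfl⟩
          simp only
          rw [hconj]
          exact Subgroup.inv_mem _ (Subgroup.zpow_mem _ (Subgroup.mem_zpowers _) _)
        · intro hx
          obtain ⟨b, hb⟩ := hx
          simp only at hb
          have : x = s * (s * t) ^ b * s⁻¹ := by
            rw [hb, hsinv]
            calc x = (s * s) * x * (s * s) := by rw [← pow_two, hs]; simp
              _ = s * (s * x * s) * s := by group
          rw [this, hconj]
          exact Subgroup.inv_mem _ (Subgroup.zpow_mem _ (Subgroup.mem_zpowers _) _)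
      intro a
      have := Subgroup.zpow_mem _ hmem a
      exact (Subgroup.mem_normalizer_iff.1 this _).1 (Subgroup.mem_zpowers _)
    have : s ^ a * (s * t) ^ b * (s ^ a)⁻¹ = (s ^ a * (s * t) * (s ^ a)⁻¹) ^ b := by rw [conj_zpow]
    rw [this]
    exact Subgroup.zpow_mem _ (h1 a) b
  have hD := hps.to_sup_of_normal_right' hpy hnorm
  refine hD.to_le ?_
  rw [sup_le_iff]
  refine ⟨le_sup_left, ?_⟩
  rw [Subgroup.zpowers_le]
  have key : s⁻¹ * (s * t) ∈ (Subgroup.zpowers s ⊔ Subgroup.zpowers (s * t) : Subgroup H) :=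
    Subgroup.mul_mem _ (Subgroup.inv_mem _ (Subgroup.mem_sup_left (Subgroup.mem_zpowers s)))
      (Subgroup.mem_sup_right (Subgroup.mem_zpowers _))
  have : s⁻¹ * (s * t) = t := by group
  rwa [this] at key

/-- If a finite group has no non-trivial element of odd order conjugate to its inverse, then its
Sylow `2`-subgroups are normal. -/
theorem sylow_two_normal_of_no_real_odd
    (hreal : ∀ h : G, Odd (orderOf h) → IsConj h h⁻¹ → h = 1) (P : Sylow 2 G) :
    (P : Subgroup G).Normal := by
  have : Fact (Nat.Prime 2) := ⟨Nat.prime_two⟩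
  set T := (P : Subgroup G).normalCore with hT
  have hTP : T ≤ P := Subgroup.normalCore_le _
  have hTp : IsPGroup 2 T := P.2.to_le hTP
  have hodd : ¬ 2 ∣ Nat.card (G ⧸ T) := by
    intro h2
    obtain ⟨x, hx⟩ := exists_prime_orderOf_dvd_card' (G := G ⧸ T) 2 h2
    have hx2 : x ^ 2 = 1 := by
      have := pow_orderOf_eq_one x
      rwa [hx] at this
    have hxinv : x⁻¹ = x := by
      rw [inv_eq_iff_mul_eq_one, ← pow_two, hx2]
    have hBS : ∀ g : G ⧸ T, IsPGroup 2 ↥(Subgroup.zpowers x ⊔ MulAut.conj g • Subgroup.zpowers x) := by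
      intro g
      have e : MulAut.conj g • Subgroup.zpowers x = Subgroup.zpowers (g * x * g⁻¹) := by
        have e0 : MulAut.conj g • Subgroup.zpowers x =
            (Subgroup.zpowers x).map (MulAut.conj g).toMonoidHom := rfl
        rw [e0, MonoidHom.map_zpowers]
        rfl
      rw [e]
      set t := g * x * g⁻¹ with ht
      have ht2 : t ^ 2 = 1 := by rw [ht, conj_pow, hx2]; group
      have htinv : t⁻¹ = t := by
        rw [inv_eq_iff_mul_eq_one, ← pow_two, ht2]
      obtain ⟨k, m, hm, hkm, ho1, ho2, -⟩ := exists_pPart 2 Nat.prime_two (x * t)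
      have hm1 : m = 1 := by
        by_contra hm1
        obtain ⟨r, hr, hrm⟩ := Nat.exists_prime_and_dvd hm1
        have hr2 : r ≠ 2 := by rintro rfl; exact hm hrm
        have hm0 : m ≠ 0 := by rintro rfl; exact hm (dvd_zero _)
        set z := ((x * t) ^ (2 ^ k)) ^ (m / r) with hz
        have hzord : orderOf z = r ^ 1 := by
          rw [hz, orderOf_pow_of_dvd, ho2, pow_one]
          · exact Nat.div_div_self hrm hm0
          · intro h0
            have := Nat.div_mul_cancel hrm
            rw [h0, zero_mul] at this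
            exact hm0 this.symm
          · rw [ho2]; exact Nat.div_dvd_of_dvd hrm
        have hxz : x * z * x⁻¹ = z⁻¹ := by
          have h1 : x * (x * t) * x⁻¹ = (x * t)⁻¹ := by
            rw [mul_inv_rev, hxinv, htinv]
            calc x * (x * t) * x = (x * x) * t * x := by group
              _ = t * x := by rw [← pow_two, hx2, one_mul]
          rw [hz, ← pow_mul, ← conj_pow, h1, inv_pow]
        obtain ⟨h, hhz, k', hk'⟩ := exists_lift_pElement (QuotientGroup.mk' T)
          (QuotientGroup.mk'_surjective T) hr z 1 hzord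
        obtain ⟨s, hs⟩ := QuotientGroup.mk'_surjective T x
        have hrT : ¬ r ∣ Nat.card T := by
          intro hd
          obtain ⟨n, hn⟩ := hTp.exists_card_eq
          rw [hn] at hd
          exact hr2 ((Nat.prime_dvd_prime_iff_eq hr Nat.prime_two).1 (hr.dvd_of_dvd_pow hd))
        obtain ⟨c, -, hc⟩ := lift_normalizing T hr hrT h k' hk' s (-1) (by
          have e1 : ((s * h * s⁻¹ : G) : G ⧸ T) =
            (QuotientGroup.mk' T) s * (QuotientGroup.mk' T) h * ((QuotientGroup.mk' T) s)⁻¹ := rfl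
          have e2 : ((h : G) : G ⧸ T) = (QuotientGroup.mk' T) h := rfl
          rw [e1, e2, hs, hhz, hxz, zpow_neg_one])
        rw [zpow_neg_one] at hc
        have hh1 : h = 1 := by
          apply hreal h
          · rw [hk']
            exact Odd.pow (hr.odd_of_ne_two hr2)
          · exact isConj_iff.2 ⟨_, hc⟩
        rw [hh1, map_one] at hhz
        rw [← hhz, orderOf_one, pow_one] at hzord
        exact hr.one_lt.ne hzord
      apply isPGroup_two_of_involutions x t hx2 ht2 k
      rw [← orderOf_dvd_iff_pow_eq_one, hkm, hm1, mul_one]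
    have hN := Cfsg.Agent.Lib.Helper96.baerSuzuki_normalClosure (Subgroup.zpowers x) hBS
    set M := (Subgroup.normalClosure ((Subgroup.zpowers x : Subgroup (G ⧸ T)) : Set (G ⧸ T))).comap
      (QuotientGroup.mk' T) with hM
    have hMp : IsPGroup 2 M :=
      hN.comap_of_ker_isPGroup _ (by rw [QuotientGroup.ker_mk']; exact hTp)
    have hMP : M ≤ P := hMp.le_sylow_of_normal P
    have hMT : M ≤ T := Subgroup.normal_le_normalCore.2 hMP
    obtain ⟨s, hs⟩ := QuotientGroup.mk'_surjective T x
    have hsM : s ∈ M := by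
      rw [hM, Subgroup.mem_comap, hs]
      exact Subgroup.subset_normalClosure (Subgroup.mem_zpowers x)
    have : x = 1 := by
      rw [← hs]
      exact (QuotientGroup.eq_one_iff s).2 (hMT hsM)
    rw [this, orderOf_one] at hx
    omega
  have hPT : (P : Subgroup G) ≤ T := by
    rw [← Subgroup.relIndex_eq_one]
    have h1 : T.relIndex P ∣ T.index := Subgroup.relIndex_dvd_index_of_le hTP
    have h2 : T.relIndex P ∣ Nat.card P := Subgroup.relIndex_dvd_card T P
    obtain ⟨n, hn⟩ := P.2.exists_card_eq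
    rw [hn] at h2
    obtain ⟨j, -, hj⟩ := (Nat.dvd_prime_pow Nat.prime_two).1 h2
    rcases Nat.eq_zero_or_pos j with rfl | hjpos
    · simpa using hj
    · exfalso
      apply hodd
      rw [← Subgroup.index_eq_card]
      refine dvd_trans ?_ h1
      rw [hj]
      exact dvd_pow_self 2 hjpos.ne'
  have : (P : Subgroup G) = T := le_antisymm hPT hTP
  rw [this]
  infer_instance

end Cfsg.Agent.Lib.Helper67
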